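import Groth.Agent.S14584
import Groth.Agent.S4094
import Groth.Agent.Lib.AntiAffine.Prod
import Groth.Agent.Lib.AntiAffine.ProperFibre
import Groth.Agent.Lib.Chevalley.AffineQuot
import Groth.Agent.Lib.Chevalley.GroupQuot
import Groth.Agent.Lib.NoriFGS13.FFlat
import Groth.Agent.Lib.Rigidity.SmoothGroup
import Groth.Agent.Lib.QuotTorus14.Basic
import Groth.Agent.Lib.Flag27.Closed
import Groth.Agent.Lib.GrpSchField.Points
import Groth.Agent.Lib.GrpSchField.HomFlat
import Groth.Agent.Lib.Neutral.ArtinHom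
import Mathlib.AlgebraicGeometry.Group.Abelian

/-!
# The Albanese morphism of an algebraic group; translations of trivialised torsors
-/

set_option autoImplicit false
set_option backward.isDefEq.respectTransparency false
set_option linter.style.haveILetI false

universe u

open CategoryTheory CategoryTheory.Limits MonoidalCategory CartesianMonoidalCategory MonObj GrpObj AlgebraicGeometry

noncomputable section

namespace GrothLib.AlbTors16

variable {k : Type u} [Field k]

local notation "𝒞" => Over (Spec (CommRingCat.of k))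

/-- Homomorphisms from connected reduced affine groups to proper groups are trivial. -/
theorem hom_eq_one_affine_proper {N B : 𝒞} [GrpObj N] [GrpObj B] [IsAffine N.left]
    [LocallyOfFiniteType N.hom] [ConnectedSpace N.left] [IsReduced N.left] [IsProper B.hom]
    (u : N ⟶ B) [IsMonHom u] : u = 1 := by
  haveI : LocallyOfFinitePresentation N.hom := inferInstance
  obtain ⟨Q, gQ, p, j, hp, hj, hpj, hps, hpf, hpl, hm, hQ, -⟩ :=
    Groth.Agent.S4094.result (Spec (CommRingCat.of k)) N B u (GrothLib.AlgSp.flat_to_field _)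
  haveI := hp; haveI := hj; haveI := hps; haveI := hpf; haveI := hm; haveI := hQ
  haveI : IsAffine Q.left := Chevalley.isAffine_of_surjective_hom p
  haveI : IsSeparated B.hom := inferInstance
  haveI : QuasiCompact (j.left ≫ B.hom) := by
    rw [Over.w j]
    haveI : IsAffineHom Q.hom := isAffineHom_of_isAffine _
    infer_instance
  haveI : QuasiCompact j.left := QuasiCompact.of_comp j.left B.hom
  haveI : IsClosedImmersion j.left := Neutral.isClosedImmersion_of_mono_quasiCompact j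
  haveI : IsProper Q.hom := by rw [← Over.w j]; infer_instance
  haveI : ConnectedSpace Q.left := p.left.surjective.connectedSpace p.left.continuous
  haveI : IsSeparated Q.hom := inferInstance
  haveI : IsReduced Q.left := by
    haveI : QuasiCompact (p.left ≫ Q.hom) := by
      rw [Over.w p]
      haveI : IsAffineHom N.hom := isAffineHom_of_isAffine _
      infer_instance
    haveI : QuasiCompact p.left := QuasiCompact.of_comp p.left Q.hom
    haveI := NoriFGS13.isSchemeTheoreticallyDominant_of_flat p.left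
    exact IsSchemeTheoreticallyDominant.isReduced p.left
  haveI : Subsingleton Q.left := ⟨fun x y => Q.left.isoSpec.hom.homeomorph.injective
    (AntiAffine.toSpecΓ_eq_of_connected Q.hom isPreconnected_univ (Set.mem_univ x) (Set.mem_univ y))⟩
  haveI : Surjective η[Q].left := ⟨fun x => ⟨IsLocalRing.closedPoint k, Subsingleton.elim _ _⟩⟩
  have h1 : 𝟙 Q = 1 := by
    refine Over.OverMorphism.ext (ext_of_isDominant_of_isSeparated Q.hom ?_ η[Q].left ?_)
    · rw [Over.w, Over.w]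
    · rw [← Over.comp_left, ← Over.comp_left, Category.comp_id, MonObj.comp_one, Hom.one_def,
        Subsingleton.elim (toUnit (𝟙_ 𝒞)) (𝟙 _), Category.id_comp]
  rw [← hpj, ← Category.comp_id p, h1, MonObj.comp_one, MonObj.one_comp]

theorem lfp_of_surj {G A : 𝒞} [LocallyOfFiniteType G.hom] [LocallyOfFiniteType A.hom] (α : G ⟶ A) :
    LocallyOfFinitePresentation α.left := by
  haveI : LocallyOfFiniteType (α.left ≫ A.hom) := by rw [Over.w α]; infer_instance
  haveI : LocallyOfFiniteType α.left := locallyOfFiniteType_of_comp α.left A.hom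
  haveI : IsLocallyNoetherian A.left := LocallyOfFiniteType.isLocallyNoetherian A.hom
  infer_instance

/-- The Albanese property of an extension of a proper group by a connected affine one. -/
theorem existsUnique_albanese {G N A B : 𝒞} [GrpObj G] [Smooth G.hom] [QuasiCompact G.hom]
    [ConnectedSpace G.left] [GrpObj N] (i : N ⟶ G) [IsMonHom i] [Smooth N.hom] [ConnectedSpace N.left]
    [IsAffine N.left] [GrpObj A] [IsProper A.hom] (α : G ⟶ A) [IsMonHom α]
    [Surjective α.left] [Flat α.left] (hker : AlgGrp.IsKernel i α)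
    [GrpObj B] [IsProper B.hom] [Smooth B.hom] [ConnectedSpace B.left] (f : G ⟶ B) :
    ∃! g : A ⟶ B, α ≫ g = f := by
  haveI := lfp_of_surj α
  haveI : Epi α := Chevalley.epi_of_cover α ⟨inferInstance, inferInstance, inferInstance⟩
  haveI := GrothLib.Neutral.geometricallyConnected_of_point G.hom (η[G] : 𝟙_ _ ⟶ G).left (Over.w _)
  haveI := GrothLib.Neutral.geometricallyConnected_of_point B.hom (η[B] : 𝟙_ _ ⟶ B).left (Over.w _)
  haveI := Rigidity.geometricallyIntegral_of_smooth G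
  haveI := Rigidity.geometricallyIntegral_of_smooth B
  haveI := isCommMonObj_of_isProper_of_geometricallyIntegral B
  haveI : IsSeparated G.hom := GrpSchField.isSeparated G
  haveI : IsReduced N.left := Rigidity.isReduced_of_smooth N.hom
  let c : 𝟙_ 𝒞 ⟶ B := η[G] ≫ f
  let f₀ : G ⟶ B := f * (toUnit G ≫ c)⁻¹
  have key := Groth.Agent.S14584.result k G G B η[G] η[G] (μ[G] ≫ f)
  have hone : ∀ W : 𝒞, toUnit W ≫ η[G] = (1 : W ⟶ G) := fun W => rfl
  have hmul : ∀ {W : 𝒞} (x y : W ⟶ G), (x * y) ≫ f = (toUnit W ≫ c)⁻¹ * (y ≫ f) * (x ≫ f) := by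
    intro W x y
    have h := congrArg (lift x y ≫ ·) key
    simp only [MonObj.comp_mul, GrpObj.comp_inv, ← Category.assoc, comp_lift, lift_fst, lift_snd, Category.comp_id,
      ← Hom.mul_def, toUnit_unique (lift x y ≫ toUnit (G ⊗ G)) (toUnit W),
      toUnit_unique (x ≫ toUnit G) (toUnit W), toUnit_unique (y ≫ toUnit G) (toUnit W), hone,
      _root_.one_mul, _root_.mul_one, MonObj.comp_one] at h
    rw [h]
    simp only [c, ← Category.assoc, hone]
  haveI : IsMonHom f₀ := GrpSchField.isMonHom_of_mul f₀ (by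
    have e₁ : μ[G] = fst G G * snd G G := by rw [Hom.mul_def, lift_fst_snd, Category.id_comp]
    have e₂ : (f₀ ⊗ₘ f₀) ≫ μ[B] = (fst G G ≫ f₀) * (snd G G ≫ f₀) := by
      rw [Hom.mul_def, ← lift_map, lift_fst_snd, Category.id_comp]
    rw [e₁, e₂]
    simp only [f₀, MonObj.comp_mul, GrpObj.comp_inv, ← Category.assoc, toUnit_unique (fst G G ≫ toUnit G) (toUnit _),
      toUnit_unique (snd G G ≫ toUnit G) (toUnit _), toUnit_unique ((fst G G * snd G G) ≫ toUnit G) (toUnit _), hmul]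
    simp only [_root_.mul_comm, _root_.mul_left_comm])
  have hi : i ≫ f₀ = 1 := hom_eq_one_affine_proper (i ≫ f₀)
  obtain ⟨g₀, hg₀⟩ := QuotTorus14.exists_desc α f₀ fun C _ p a a' haa => by
    have h0 : (a⁻¹ * a') ≫ f₀ = 1 := by
      obtain ⟨z, hz⟩ := GrpSchField.exists_lift_of_comp_eq_one hker (a⁻¹ * a')
        (by rw [MonObj.mul_comp, GrpObj.inv_comp, haa, inv_mul_cancel])
      rw [← hz, Category.assoc, hi, MonObj.comp_one]
    rwa [MonObj.mul_comp, GrpObj.inv_comp, inv_mul_eq_one] at h0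
  have hg : α ≫ (g₀ * (toUnit A ≫ c)) = f := by
    rw [MonObj.comp_mul, hg₀, ← Category.assoc, toUnit_unique (α ≫ toUnit A) (toUnit G), inv_mul_cancel_right]
  exact ⟨g₀ * (toUnit A ≫ c), hg, fun g hg' => (cancel_epi α).1 (hg'.trans hg.symm)⟩

/-- Translations lift to torsors trivialised by anti-affine extensions. -/
theorem exists_translation [IsAlgClosed k] {G X A E Hk : 𝒞} [GrpObj G] [Smooth G.hom] [IsAffine G.left]
    [LocallyOfFiniteType X.hom] [GrpObj A] [LocallyOfFiniteType A.hom]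
    (a : AlgGrp.Action G X) (π : X ⟶ A) [Flat π.left] [Surjective π.left]
    (hcart : IsPullback (snd G X) a.act π π)
    [GrpObj E] [LocallyOfFiniteType E.hom] [QuasiCompact E.hom] (hE : AntiAffine.IsAntiAffine E)
    (φ : E ⟶ A) [IsMonHom φ] [Flat φ.left] [Surjective φ.left]
    [GrpObj Hk] (h : Hk ⟶ E) (hk : AlgGrp.IsKernel h φ) [IsAffine Hk.left]
    (σ : E ⟶ X) (hσ : σ ≫ π = φ) (t : 𝟙_ 𝒞 ⟶ A) :
    ∃ ψ : X ≅ X, (G ◁ ψ.hom) ≫ a.act = a.act ≫ ψ.hom ∧
      ψ.hom ≫ π = π ≫ (lift (𝟙 A) (toUnit A ≫ t) ≫ μ[A]) := by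
  haveI : QuasiSeparated E.hom := by
    haveI : IsLocallyNoetherian E.left := LocallyOfFiniteType.isLocallyNoetherian E.hom
    infer_instance
  let act {T : 𝒞} (g : T ⟶ G) (x : T ⟶ X) : T ⟶ X := lift g x ≫ a.act
  have hact_mul : ∀ {T : 𝒞} (g g' : T ⟶ G) (x : T ⟶ X), act (g * g') x = act g (act g' x) := by
    intro T g g' x
    have h1 := congrArg (lift (lift g g') x ≫ ·) a.mul_act
    simp only [← Category.assoc, lift_whiskerRight, ← Hom.mul_def, lift_lift_associator_hom, lift_whiskerLeft] at h1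
    exact h1
  have hact_inj : ∀ {T : 𝒞} (g g' : T ⟶ G) (x : T ⟶ X), act g x = act g' x → g = g' := by
    intro T g g' x he
    have := hcart.hom_ext (by rw [lift_snd, lift_snd] : lift g x ≫ snd G X = lift g' x ≫ snd G X) he
    simpa using congrArg (· ≫ fst G X) this
  have hπ : ∀ {T : 𝒞} (g : T ⟶ G) (x : T ⟶ X), act g x ≫ π = x ≫ π := by
    intro T g x
    show (lift g x ≫ a.act) ≫ π = _
    rw [Category.assoc, ← hcart.w, lift_snd_assoc]
  have hhφ : h ≫ φ = 1 := GrpSchField.comp_eq_one hk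
  -- the cocycle
  let y : E ⊗ Hk ⟶ E := (snd E Hk ≫ h) * fst E Hk
  have hy : (fst E Hk ≫ σ) ≫ π = (y ≫ σ) ≫ π := by
    rw [Category.assoc, Category.assoc, hσ, MonObj.mul_comp, Category.assoc, hhφ, MonObj.comp_one, _root_.one_mul]
  let w : E ⊗ Hk ⟶ G ⊗ X := hcart.lift (fst E Hk ≫ σ) (y ≫ σ) hy
  have hw₁ : w ≫ snd G X = fst E Hk ≫ σ := hcart.lift_fst _ _ hy
  have hw₂ : w ≫ a.act = y ≫ σ := hcart.lift_snd _ _ hy
  let c : E ⊗ Hk ⟶ G := w ≫ fst G X
  let c₀ : Hk ⟶ G := lift (toUnit Hk ≫ η[E]) (𝟙 Hk) ≫ c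
  have hc : c = snd E Hk ≫ c₀ := Over.OverMorphism.ext (by
    rw [Over.comp_left, Over.comp_left]
    exact AntiAffine.eq_snd_comp hE η[E] c.left)
  have hσh : ∀ {T : 𝒞} (z : T ⟶ Hk) (e : T ⟶ E), ((z ≫ h) * e) ≫ σ = act (z ≫ c₀) (e ≫ σ) := by
    intro T z e
    have h1 : lift e z ≫ w = lift (z ≫ c₀) (e ≫ σ) := by
      apply CartesianMonoidalCategory.hom_ext
      · rw [Category.assoc, show w ≫ fst G X = snd E Hk ≫ c₀ from hc, lift_snd_assoc, lift_fst]
      · rw [Category.assoc, hw₁, lift_fst_assoc, lift_snd]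
    show _ = lift (z ≫ c₀) (e ≫ σ) ≫ a.act
    rw [← h1, Category.assoc, hw₂, ← Category.assoc]
    simp only [y, MonObj.comp_mul, lift_snd_assoc, lift_fst]
  -- the covering
  let Φ : G ⊗ E ⟶ X := (G ◁ σ) ≫ a.act
  have hsq : IsPullback Φ (snd G E) π φ := by
    have h1 : IsPullback (G ◁ σ) (snd G E) (snd G X) σ :=
      IsPullback.of_map (Over.forget _) (whiskerLeft_snd G σ) (GrpSchField.whiskerLeft_snd_isPullback G σ)
    rw [← hσ]
    exact h1.paste_horiz hcart.flip
  have hsqS := hsq.map (Over.forget _)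
  haveI hlfφ := lfp_of_surj φ
  haveI : Flat Φ.left := MorphismProperty.of_isPullback (P := @Flat) hsqS.flip ‹Flat φ.left›
  haveI : Surjective Φ.left := MorphismProperty.of_isPullback (P := @Surjective) hsqS.flip ‹Surjective φ.left›
  haveI : LocallyOfFinitePresentation Φ.left :=
    MorphismProperty.of_isPullback (P := @LocallyOfFinitePresentation) hsqS.flip hlfφ
  have hcov : Chevalley.IsCover Φ := ⟨inferInstance, inferInstance, inferInstance⟩
  haveI : Epi Φ := Chevalley.epi_of_cover Φ hcov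
  haveI : Epi (G ◁ Φ) := by
    rw [← MonoidalCategory.id_tensorHom]
    exact Chevalley.epi_of_cover _ (Chevalley.cover_tensor (Chevalley.cover_id G) hcov)
  have hΦ : ∀ {T : 𝒞} (g : T ⟶ G) (e : T ⟶ E), lift g e ≫ Φ = act g (e ≫ σ) := by
    intro T g e
    show lift g e ≫ (G ◁ σ) ≫ a.act = lift g (e ≫ σ) ≫ a.act
    rw [← Category.assoc, lift_whiskerLeft]
  have hex : ∀ e₁ : 𝟙_ 𝒞 ⟶ E, ∃ ψ : X ⟶ X, ∀ {T : 𝒞} (g : T ⟶ G) (e : T ⟶ E),
      act g (e ≫ σ) ≫ ψ = act g ((e * (toUnit T ≫ e₁)) ≫ σ) := by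
    intro e₁
    let l : G ⊗ E ⟶ X := lift (fst G E) (snd G E * (toUnit _ ≫ e₁)) ≫ Φ
    have hl : ∀ {T : 𝒞} (g : T ⟶ G) (e : T ⟶ E), lift g e ≫ l = act g ((e * (toUnit T ≫ e₁)) ≫ σ) := by
      intro T g e
      rw [← hΦ]
      simp only [l, ← Category.assoc, comp_lift, lift_fst, MonObj.comp_mul, lift_snd,
        toUnit_unique (lift g e ≫ toUnit (G ⊗ E)) (toUnit T)]
    obtain ⟨ψ, hψ⟩ := QuotTorus14.exists_desc Φ l fun C _ p b b' hbb => by
      have hb : b = lift (b ≫ fst G E) (b ≫ snd G E) := by rw [← comp_lift, lift_fst_snd, Category.comp_id]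
      have hb' : b' = lift (b' ≫ fst G E) (b' ≫ snd G E) := by rw [← comp_lift, lift_fst_snd, Category.comp_id]
      rw [hb, hb', hΦ, hΦ] at hbb
      have hφ := congrArg (· ≫ π) hbb
      simp only [hπ, Category.assoc, hσ] at hφ
      simp only [← Category.assoc] at hφ
      obtain ⟨z, hz⟩ := GrpSchField.exists_lift_of_comp_eq_one hk ((b ≫ snd G E) * (b' ≫ snd G E)⁻¹)
        (by rw [MonObj.mul_comp, GrpObj.inv_comp, hφ, mul_inv_cancel])
      have he : b ≫ snd G E = (z ≫ h) * (b' ≫ snd G E) := by rw [hz, inv_mul_cancel_right]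
      rw [he, hσh, ← hact_mul] at hbb
      rw [hb, hb', hl, hl, he, _root_.mul_assoc, hσh, ← hact_mul, hact_inj _ _ _ hbb]
    refine ⟨ψ, fun {T} g e => ?_⟩
    rw [← hΦ g e, Category.assoc, hψ, hl]
  choose ψ hψ using hex
  have hΦ' : Φ = act (fst G E) (snd G E ≫ σ) := by rw [← hΦ, lift_fst_snd, Category.id_comp]
  have hcomp : ∀ e₁ e₂ : 𝟙_ 𝒞 ⟶ E, e₁ * e₂ = 1 → ψ e₁ ≫ ψ e₂ = 𝟙 X := by
    intro e₁ e₂ he
    rw [← cancel_epi Φ, hΦ', ← Category.assoc, hψ, hψ, Category.comp_id, _root_.mul_assoc, ← MonObj.comp_mul, he,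
      MonObj.comp_one, _root_.mul_one]
  obtain ⟨e₁, -, he₁⟩ := Flag27.exists_cl_lift φ (E := Set.univ) isClosed_univ.isLocallyClosed (w := t)
    (by rw [Set.image_univ]; exact φ.left.surjective _)
  refine ⟨⟨ψ e₁, ψ e₁⁻¹, hcomp _ _ (mul_inv_cancel _), hcomp _ _ (inv_mul_cancel _)⟩, ?_, ?_⟩
  · show (G ◁ ψ e₁) ≫ a.act = a.act ≫ ψ e₁
    rw [← cancel_epi (G ◁ Φ)]
    let g₁ : G ⊗ (G ⊗ E) ⟶ G := fst _ _
    let g₂ : G ⊗ (G ⊗ E) ⟶ G := snd _ _ ≫ fst G E
    let e : G ⊗ (G ⊗ E) ⟶ E := snd _ _ ≫ snd G E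
    have e0 : G ◁ Φ = lift g₁ (act g₂ (e ≫ σ)) := by
      apply CartesianMonoidalCategory.hom_ext
      · simp [g₁]
      · rw [whiskerLeft_snd, lift_snd, ← hΦ]
        simp only [g₂, e, ← comp_lift, lift_fst_snd, Category.comp_id]
    rw [e0, ← Category.assoc, lift_whiskerLeft, hψ, ← Category.assoc]
    show act g₁ (act g₂ _) = act g₁ (act g₂ (e ≫ σ)) ≫ ψ e₁
    rw [← hact_mul, ← hact_mul, hψ]
  · show ψ e₁ ≫ π = _
    rw [← cancel_epi Φ, hΦ', ← Category.assoc, hψ, hπ, ← Category.assoc, hπ, Category.assoc, hσ, MonObj.mul_comp,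
      Category.assoc, he₁, Category.assoc (snd G E) σ, hσ]
    rw [← Hom.mul_def, MonObj.comp_mul, Category.comp_id, ← Category.assoc (snd G E ≫ φ),
      toUnit_unique ((snd G E ≫ φ) ≫ toUnit A) (toUnit _)]

end GrothLib.AlbTors16
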